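import Groth.Agent.AcycHyper7.DeRham
import Groth.Agent.ExtLoc7.QCoh
import Groth.Agent.OmegaLib.Affine
import Groth.Agent.OmegaUniv.ToSectIso
import Groth.Agent.OmegaUniv.Unram
import Groth.Prelude.Def_DeRham
import Groth.Agent.S15292

/-!
# De Rham cohomology of an affine scheme
-/

set_option autoImplicit false
set_option linter.style.haveILetI false
set_option backward.isDefEq.respectTransparency false
set_option backward.isDefEq.respectTransparency.types false

universe u v

open CategoryTheory CategoryTheory.Limits AlgebraicGeometry Opposite TopologicalSpace exteriorPower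

open Groth.Agent.Synt29

namespace Groth.Agent.AcycHyper7

/-- Two additive maps out of an exterior power of differentials agreeing on generators are equal. -/
theorem eq_of_gen {R A : Type u} [CommRing R] [CommRing A] [Algebra R A] {p : ℕ} {N : Type v}
    [AddCommGroup N] (F G : ↥(⋀[A]^p (Ω[A⁄R])) →+ N)
    (h : ∀ (b₀ : A) (b : Fin p → A),
      F (DeRham.gen (KaehlerDifferential.D R A) p b₀ b) = G (DeRham.gen (KaehlerDifferential.D R A) p b₀ b)) :
    F = G := by
  refine AddMonoidHom.ext fun y => ?_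
  have hy : y ∈ Submodule.span A
      (ιMulti A p '' {a : Fin p → Ω[A⁄R] | Set.range a ⊆ Set.range (KaehlerDifferential.D R A)}) := by
    rw [ιMulti_span_of_span _ _ _ (KaehlerDifferential.span_range_derivation R A)]; trivial
  have key : ∀ c : A, F (c • y) = G (c • y) := by
    induction hy using Submodule.span_induction with
    | mem y hy =>
      obtain ⟨a, ha, rfl⟩ := hy
      choose b hb using fun i => ha (Set.mem_range_self i)
      obtain rfl : a = fun i => KaehlerDifferential.D R A (b i) := funext fun i => (hb i).symm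
      exact fun c => h c b
    | zero => simp
    | add x z _ _ hx hz => intro c; rw [smul_add, map_add, map_add, hx c, hz c]
    | smul r x _ hx => intro c; rw [smul_smul]; exact hx (c * r)
  simpa using key 1

/-- The sections of a de Rham complex on an affine scheme are the exterior powers of the
differentials of the ring, compatibly with the rule. -/
theorem exists_equiv (R A : Type u) [CommRing R] [CommRing A] [Algebra R A]
    (D : DeRhamSh.OmegaCx (Spec.map (CommRingCat.ofHom (algebraMap R A)))) :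
    ∃ ψ : ∀ p, ↥(⋀[A]^p (Ω[A⁄R])) ≃+
        ((D.K.X p).obj.obj (op (⊤ : (Spec (CommRingCat.of A)).Opens))),
      ∀ p (b₀ : A) (b : Fin p → A),
        (D.K.d p (p + 1)).hom.app (op (⊤ : (Spec (CommRingCat.of A)).Opens))
            (ψ p (DeRham.gen (KaehlerDifferential.D R A) p b₀ b)) =
          ψ (p + 1) (ιMulti A (p + 1)
            (Fin.cons (KaehlerDifferential.D R A b₀) fun i => KaehlerDifferential.D R A (b i))) := by
  obtain ⟨e, he⟩ := OmegaLib.exists_iso_kTilde R A
  let X : Scheme.{u} := Spec (CommRingCat.of A)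
  let f : X ⟶ Spec (CommRingCat.of R) := Spec.map (CommRingCat.ofHom (algebraMap R A))
  letI : Algebra A Γ(X, ⊤) := (OmAff.toΓ A).toAlgebra
  have hι : Function.Bijective (OmAff.toΓ A) :=
    ConcreteCategory.bijective_of_isIso (Scheme.ΓSpecIso (CommRingCat.of A)).inv
  haveI : IsLocalization (⊥ : Submonoid A) Γ(X, ⊤) :=
    IsLocalization.of_le_isUnit_of_bijective (by rintro _ ⟨_, h, rfl⟩; rw [Submonoid.mem_bot.1 h]; simp) hι
  letI : Module A Γ(Omega.sheaf f, ⊤) := Module.compHom _ (OmAff.toΓ A)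
  haveI : IsScalarTower A Γ(X, ⊤) Γ(Omega.sheaf f, ⊤) := IsScalarTower.of_algebraMap_smul fun _ _ => rfl
  let T := AddEquiv.ofBijective (OmegaLib.toTop R A) (OmegaStalk.top_toTop_bijective R A)
  let l : Ω[A⁄R] →ₗ[A] Γ(Omega.sheaf f, ⊤) :=
    { toFun := fun z => e.inv.app ⊤ (T z)
      map_add' := fun a b => by rw [map_add, map_add]
      map_smul' := fun r z =>
        (congrArg (e.inv.app ⊤) (OmegaLib.toTop_smul R A r z)).trans (Scheme.Modules.Hom.app_smul _ _ _) }
  have hl : Function.Bijective l := show Function.Bijective (fun z => e.inv.app ⊤ (T z)) from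
    Function.Bijective.comp (ConcreteCategory.bijective_of_isIso (e.inv.app ⊤)) T.bijective
  haveI : IsLocalizedModule (⊥ : Submonoid A) l := by
    refine ⟨fun s => ?_, fun y => ?_, fun {x₁ x₂} h => ⟨1, by rw [hl.1 h]⟩⟩
    · obtain ⟨_, rfl⟩ := s
      rw [map_one]
      exact isUnit_one
    · obtain ⟨x, rfl⟩ := hl.2 y
      exact ⟨(x, 1), one_smul _ _⟩
  have hlD : ∀ a : A, l (KaehlerDifferential.D R A a) = OmegaSh.dSect f ⊤ (OmAff.toΓ A a) := fun a => by
    show e.inv.app ⊤ (OmegaLib.toTop R A (KaehlerDifferential.D R A a)) = _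
    rw [← he a, ← ConcreteCategory.comp_apply (e.hom.app ⊤), ← Scheme.Modules.Hom.comp_app, Iso.hom_inv_id]
    rfl
  let U : X.affineOpens := ⟨⊤, isAffineOpen_top X⟩
  let g := fun p => ExtLoc7.extMap Γ(X, ⊤) l p
  have hg : ∀ p, Function.Bijective (g p) := fun p => by
    haveI := ExtLoc7.isLocalizedModule_extMap (⊥ : Submonoid A) (B' := Γ(X, ⊤)) l p
    refine ⟨fun x y h => ?_, fun y => ?_⟩
    · obtain ⟨⟨_, rfl⟩, hc⟩ := IsLocalizedModule.exists_of_eq (S := (⊥ : Submonoid A)) h
      simpa [Submonoid.smul_def] using hc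
    · obtain ⟨⟨x, ⟨_, rfl⟩⟩, hx⟩ := IsLocalizedModule.surj (⊥ : Submonoid A) (g p) y
      exact ⟨x, by simpa [Submonoid.smul_def] using hx.symm⟩
  let ψ : ∀ p, ↥(⋀[A]^p (Ω[A⁄R])) ≃+ ((D.K.X p).obj.obj (op U.1)) := fun p =>
    ((AddEquiv.ofBijective (g p).toAddMonoidHom (hg p)).trans (D.loc p U).symm.toAddEquiv).trans
      ((((sheafToPresheaf _ AddCommGrpCat.{u}).mapIso (D.iso p)).app (op U.1)).symm.addCommGroupIsoToAddEquiv)
  have hgen : ∀ p (b₀ : A) (b : Fin p → A), g p (DeRham.gen (KaehlerDifferential.D R A) p b₀ b) =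
      OmAff.toΓ A b₀ • ιMulti Γ(X, ⊤) p (fun i => (OmegaSh.dOmega f).app ⊤ (OmAff.toΓ A (b i))) := fun p b₀ b => by
    show g p (b₀ • ιMulti A p fun i => KaehlerDifferential.D R A (b i)) = _
    rw [map_smul, ExtLoc7.extMap_ιMulti, ← algebraMap_smul Γ(X, ⊤) b₀]
    simp only [hlD]
    rfl
  refine ⟨ψ, fun p b₀ b => ?_⟩
  show (D.K.d p (p + 1)).hom.app (op U.1) ((D.iso p).inv.hom.app (op U.1) ((D.loc p U).symm (g p _))) =
    (D.iso (p + 1)).inv.hom.app (op U.1) ((D.loc (p + 1) U).symm (g (p + 1) _))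
  rw [hgen, D.rule p U, ExtLoc7.extMap_ιMulti]
  congr 3
  funext i
  refine Fin.cases ?_ (fun j => ?_) i <;> simp only [Fin.cons_zero, Fin.cons_succ, hlD] <;> rfl

/-- A de Rham complex on an affine scheme gives a de Rham differential on the exterior powers of the
differentials of the ring. -/
theorem exists_isDiff (R A : Type u) [CommRing R] [CommRing A] [Algebra R A]
    (D : DeRhamSh.OmegaCx (Spec.map (CommRingCat.ofHom (algebraMap R A)))) :
    ∃ d : ∀ p : ℕ, ↥(⋀[A]^p (Ω[A⁄R])) →ₗ[R] ↥(⋀[A]^(p + 1) (Ω[A⁄R])),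
      DeRham.IsDiff (KaehlerDifferential.D R A) d := by
  obtain ⟨ψ, hψ⟩ := exists_equiv R A D
  let d₀ : ∀ p, ↥(⋀[A]^p (Ω[A⁄R])) →+ ↥(⋀[A]^(p + 1) (Ω[A⁄R])) := fun p =>
    (ψ (p + 1)).symm.toAddMonoidHom.comp
      (((D.K.d p (p + 1)).hom.app (op (⊤ : (Spec (CommRingCat.of A)).Opens))).hom.comp (ψ p).toAddMonoidHom)
  have hd₀ : ∀ p b₀ b, d₀ p (DeRham.gen (KaehlerDifferential.D R A) p b₀ b) = ιMulti A (p + 1)
      (Fin.cons (KaehlerDifferential.D R A b₀) fun i => KaehlerDifferential.D R A (b i)) := fun p b₀ b =>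
    (congrArg (ψ (p + 1)).symm (hψ p b₀ b)).trans ((ψ (p + 1)).symm_apply_apply _)
  refine ⟨fun p => { d₀ p with
      map_smul' := fun r x => ?_ }, Groth.Agent.S15292.result R A _ fun p b₀ b => hd₀ p b₀ b⟩
  refine DFunLike.congr_fun (eq_of_gen
    ((d₀ p).comp (DistribSMul.toAddMonoidHom _ r))
    ((DistribSMul.toAddMonoidHom _ r).comp (d₀ p)) fun b₀ b => ?_) x
  show d₀ p (r • DeRham.gen (KaehlerDifferential.D R A) p b₀ b) = r • d₀ p _
  have : r • DeRham.gen (KaehlerDifferential.D R A) p b₀ b =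
      DeRham.gen (KaehlerDifferential.D R A) p (r • b₀) b := (smul_assoc r b₀ _).symm
  rw [this, hd₀, hd₀, Derivation.map_smul, ← algebraMap_smul A r (KaehlerDifferential.D R A b₀),
    ← Fin.update_cons_zero (x := (0 : Ω[A⁄R])), AlternatingMap.map_update_smul, Fin.update_cons_zero,
    algebraMap_smul]

/-- The hypercohomology of a de Rham complex on an affine scheme is the cohomology of the de Rham
complex of the ring. -/
theorem nonempty_hdR_affine (R A : Type u) [CommRing R] [CommRing A] [Algebra R A]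
    (D : DeRhamSh.OmegaCx (Spec.map (CommRingCat.ofHom (algebraMap R A))))
    [HasDerivedCategory.{u} (Sheaf (Opens.grothendieckTopology ↥(Spec (CommRingCat.of A))) AddCommGrpCat.{u})]
    (d : ∀ p : ℕ, ↥(⋀[A]^p (Ω[A⁄R])) →ₗ[R] ↥(⋀[A]^(p + 1) (Ω[A⁄R])))
    (hd : DeRham.IsDiff (KaehlerDifferential.D R A) d) (n : ℕ) :
    Nonempty (DeRhamSh.HdR D (n : ℤ) ≃+ ↑(DeRham.H hd n)) := by
  obtain ⟨ψ, hψ⟩ := exists_equiv R A D
  let X : Scheme.{u} := Spec (CommRingCat.of A)
  let f : X ⟶ Spec (CommRingCat.of R) := Spec.map (CommRingCat.ofHom (algebraMap R A))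
  let U : X.affineOpens := ⟨⊤, isAffineOpen_top X⟩
  have comm : ∀ p (x : ↥(⋀[A]^p (Ω[A⁄R]))),
      (D.K.d p (p + 1)).hom.app (op U.1) (ψ p x) = ψ (p + 1) (d p x) := fun p => by
    refine DFunLike.congr_fun (eq_of_gen
      (((D.K.d p (p + 1)).hom.app (op U.1)).hom.comp (ψ p).toAddMonoidHom)
      ((ψ (p + 1)).toAddMonoidHom.comp (d p).toAddMonoidHom) fun b₀ b => ?_)
    show (D.K.d p (p + 1)).hom.app (op U.1) (ψ p _) = ψ (p + 1) (d p _)
    rw [hψ, hd.1]
  have hq : ∀ p, Coh.IsQCoh (D.term p) := fun p =>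
    ExtLoc7.isQCoh_of_isExtPow (OmegaUniv.isQCoh_omega f) (D.isExtPow p)
  obtain ⟨h⟩ := nonempty_hdRU_iso D hq U.2 n
  let C := ((forget₂ (ModuleCat.{u} R) AddCommGrpCat.{u}).mapHomologicalComplex (ComplexShape.up ℕ)).obj (DeRham.cx hd)
  let eC : C ≅ sections D U.1 :=
    HomologicalComplex.Hom.isoOfComponents (fun p => (ψ p).toAddCommGrpIso) fun i j hij => by
      obtain rfl : i + 1 = j := hij
      ext x
      have e1 : (DeRham.cx hd).d i (i + 1) = ModuleCat.ofHom (d i) := by
        simp [DeRham.cx]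
      refine (comm i x).trans ?_
      show ψ (i + 1) (d i x) = ψ (i + 1) (((DeRham.cx hd).d i (i + 1)).hom x)
      rw [e1]
      rfl
  exact ⟨(h ≪≫ (HomologicalComplex.homologyFunctor _ _ n).mapIso eC.symm ≪≫
    ((DeRham.cx hd).sc n).mapHomologyIso (forget₂ (ModuleCat.{u} R) AddCommGrpCat.{u})).addCommGroupIsoToAddEquiv⟩

end Groth.Agent.AcycHyper7
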