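import Groth.Agent.SiteBase.Cohom
import Groth.Agent.SiteBase.KInjSections
import Groth.Agent.TriCat.Adapted
import Groth.Agent.SpObjSS.SiteLeray
import Mathlib.Algebra.Homology.DerivedCategory.KInjective
import Mathlib.Algebra.Homology.HomotopyCategory.Pretriangulated
import Mathlib.CategoryTheory.Preadditive.Injective.Basic

/-!
# Hypercohomology of bounded below complexes of sheaves with acyclic terms

`hduAddEquiv` : for a bounded below complex `K` of abelian sheaves with terms acyclic on `U`,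
`H^q(U, K)` is the cohomology of the complex of sections `K(U)`.

`subsingleton_hdu` : a complex in degrees `≤ n` whose terms have no cohomology on `U` in degrees
`≥ r` has no hypercohomology on `U` in degrees `≥ n + r`.
-/

set_option autoImplicit false
set_option linter.style.haveILetI false
set_option backward.isDefEq.respectTransparency false
set_option backward.isDefEq.respectTransparency.types false

universe u

open CategoryTheory CategoryTheory.Limits Opposite Groth.Agent.SiteBase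

namespace Groth.Agent.AcycHyper7

variable {C : Type u} [SmallCategory C] {J : GrothendieckTopology C}

/-- No cohomology on `U` in degrees `≥ r` other than degree zero. -/
def CdLE (r : ℕ) (U : C) (M : Sheaf J AddCommGrpCat.{u}) : Prop :=
  ∀ k : ℕ, r ≤ k + 1 → Subsingleton (CohSite.HU M (k + 1) U)

lemma cdLE_mono {r r' : ℕ} (h : r ≤ r') {U : C} {M : Sheaf J AddCommGrpCat.{u}}
    (hM : CdLE r U M) : CdLE r' U M := fun k hk => hM k (h.trans hk)

lemma cdLE_of_isZero (r : ℕ) (U : C) {M : Sheaf J AddCommGrpCat.{u}} (hM : IsZero M) :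
    CdLE r U M := fun k _ => ⟨fun (x y : Abelian.Ext (CohCx.freeSheaf J U) M (k + 1)) => by
  show @Eq (Abelian.Ext (CohCx.freeSheaf J U) M (k + 1)) x y
  have h : ∀ z : Abelian.Ext (CohCx.freeSheaf J U) M (k + 1), z = 0 := fun z => by
    rw [← Abelian.Ext.comp_mk₀_id z, show 𝟙 M = 0 from hM.eq_of_src _ _, Abelian.Ext.mk₀_zero,
      Abelian.Ext.comp_zero]
  rw [h x, h y]⟩

lemma cdLE_of_injective (r : ℕ) (U : C) (M : Sheaf J AddCommGrpCat.{u}) [Injective M] :
    CdLE r U M := fun _ _ => inferInstance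

lemma cdLE_X₃ {r : ℕ} {U : C} {S : ShortComplex (Sheaf J AddCommGrpCat.{u})} (hS : S.ShortExact)
    (h₁ : CdLE r U S.X₁) (h₂ : CdLE r U S.X₂) : CdLE r U S.X₃ := fun k hk =>
  subsingleton_HU_X₃ hS U (k + 1) (h₁ (k + 1) (by omega)) (h₂ k hk)

lemma cdLE_X₂ {r : ℕ} {U : C} {S : ShortComplex (Sheaf J AddCommGrpCat.{u})} (hS : S.ShortExact)
    (h₁ : CdLE r U S.X₁) (h₃ : CdLE r U S.X₃) : CdLE r U S.X₂ := fun k hk =>
  subsingleton_HU_X₂ hS U (k + 1) (h₁ k hk) (h₃ k hk)

lemma cdLE_of_iso {r : ℕ} {U : C} {M N : Sheaf J AddCommGrpCat.{u}} (e : M ≅ N)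
    (hM : CdLE r U M) : CdLE r U N := fun k hk => by
  have : Subsingleton (Abelian.Ext (CohCx.freeSheaf J U) M (k + 1)) := hM k hk
  refine ⟨fun (x y : Abelian.Ext (CohCx.freeSheaf J U) N (k + 1)) => ?_⟩
  show @Eq (Abelian.Ext (CohCx.freeSheaf J U) N (k + 1)) x y
  rw [← Abelian.Ext.comp_mk₀_id x, ← Abelian.Ext.comp_mk₀_id y, ← e.inv_hom_id,
    ← Abelian.Ext.mk₀_comp_mk₀, ← Abelian.Ext.comp_assoc_of_second_deg_zero,
    ← Abelian.Ext.comp_assoc_of_second_deg_zero,
    Subsingleton.elim (x.comp (Abelian.Ext.mk₀ e.inv) (add_zero _))]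

/-- Sections at an object. -/
noncomputable abbrev sec (U : C) : Sheaf J AddCommGrpCat.{u} ⥤ AddCommGrpCat.{u} :=
  Groth.Agent.SpObjSS.secAt J U

/-- The complex of sections over `U`. -/
noncomputable abbrev secCx (U : C) (K : CochainComplex (Sheaf J AddCommGrpCat.{u}) ℤ) :
    CochainComplex AddCommGrpCat.{u} ℤ :=
  ((sec U).mapHomologicalComplex (ComplexShape.up ℤ)).obj K

lemma isAdapted (U : C) :
    TriCat.IsAdapted (sec (J := J) U) (CdLE 1 U) where
  zero Z hZ := cdLE_of_isZero 1 U hZ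
  ses S hS h₁ h₂ := ⟨cdLE_X₃ hS h₁ h₂, fun w => by
    haveI := hS.mono_f
    exact
      { exact := (hS.exact.map_of_mono_of_preservesKernel (sec U) hS.mono_f inferInstance)
        mono_f := inferInstanceAs (Mono ((sec U).map S.f))
        epi_g := (AddCommGrpCat.epi_iff_surjective _).2
          (surjective_sections_of_HU_one hS U (h₁ 0 le_rfl)) }⟩

variable [HasDerivedCategory.{u} (Sheaf J AddCommGrpCat.{u})]

/-- Hypercohomology is computed by sections of an injective resolution. -/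
lemma exists_resolution (U : C) (K : CochainComplex (Sheaf J AddCommGrpCat.{u}) ℤ) (a : ℤ)
    [K.IsStrictlyGE a] :
    ∃ (I : CochainComplex (Sheaf J AddCommGrpCat.{u}) ℤ) (s : K ⟶ I),
      I.IsStrictlyGE a ∧ (∀ m, Injective (I.X m)) ∧ (∀ m, Mono (s.f m)) ∧ QuasiIso s ∧
      ∀ q : ℤ, Nonempty (AddCommGrpCat.of (CohCx.HDU (DerivedCategory.Q.obj K) q U) ≅
        (secCx U I).homology q) := by
  obtain ⟨I, s, hI, hinj, hm, hs⟩ := TriCat.exists_quasiIso_resolution
    (A := Sheaf J AddCommGrpCat.{u}) Injective ⟨_, isZero_zero _, IsZero.injective (isZero_zero _)⟩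
    (fun M => ⟨Injective.under M, Injective.ι M, inferInstance, inferInstance⟩) K a
  haveI := hI
  haveI := hinj
  haveI := hs
  haveI : I.IsKInjective := CochainComplex.isKInjective_of_injective _ a
  refine ⟨I, s, hI, hinj, hm, hs, fun q => ⟨?_⟩⟩
  let e1 : CohCx.HDUPresheaf (DerivedCategory.Q.obj K) q ≅
      CohCx.HDUPresheaf (DerivedCategory.Q.obj I) q :=
    Functor.isoWhiskerLeft _ (preadditiveYoneda.mapIso
      ((shiftFunctor _ q).mapIso (asIso (DerivedCategory.Q.map s))))
  exact (e1 ≪≫ (KInjSections.iso I q).symm).app (op U) ≪≫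
    (((KInjSections.preCx I).sc q).mapHomologyIso
      ((evaluation Cᵒᵖ AddCommGrpCat.{u}).obj (op U))).symm

/-- Hypercohomology of a complex of acyclic sheaves. -/
theorem nonempty_iso_homology (U : C) (K : CochainComplex (Sheaf J AddCommGrpCat.{u}) ℤ) (a : ℤ)
    [K.IsStrictlyGE a] (hK : ∀ m, CdLE 1 U (K.X m)) (q : ℤ) :
    Nonempty (AddCommGrpCat.of (CohCx.HDU (DerivedCategory.Q.obj K) q U) ≅
      (secCx U K).homology q) := by
  obtain ⟨I, s, hI, hinj, hm, hs, he⟩ := exists_resolution U K a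
  haveI := hI
  haveI := hs
  haveI := TriCat.quasiIso_map_of_adapted (isAdapted U) s hm a hK
    (fun m => @cdLE_of_injective _ _ _ 1 U _ (hinj m))
  exact ⟨(he q).some ≪≫ (isoOfQuasiIsoAt
    (((sec U).mapHomologicalComplex (ComplexShape.up ℤ)).map s) q).symm⟩

omit [HasDerivedCategory.{u} (Sheaf J AddCommGrpCat.{u})] in
lemma shortExact_cycles (Q : CochainComplex (Sheaf J AddCommGrpCat.{u}) ℤ) (hQ : Q.Acyclic) (i : ℤ) :
    ∃ (w : Q.iCycles i ≫ Q.toCycles i (i + 1) = 0),
      (ShortComplex.mk (Q.iCycles i) (Q.toCycles i (i + 1)) w).ShortExact := by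
  have h : IsZero (Q.homology (i + 1)) := (HomologicalComplex.exactAt_iff_isZero_homology _ _).1 (hQ _)
  have w : Q.iCycles i ≫ Q.toCycles i (i + 1) = 0 := by
    rw [← cancel_mono (Q.iCycles (i + 1)), Category.assoc, Q.toCycles_i, Q.iCycles_d, zero_comp]
  refine ⟨w, { exact := ?_, mono_f := inferInstance, epi_g := ?_ }⟩
  · refine ShortComplex.exact_of_f_is_kernel _ (KernelFork.IsLimit.ofι _ _
      (fun {Z} k hk => Q.liftCycles k (i + 1) (by simp) ?_) (fun _ _ => Q.liftCycles_i _ _ _ _)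
      (fun _ _ m hm => (cancel_mono (Q.iCycles i)).1 (hm.trans (Q.liftCycles_i _ _ _ _).symm)))
    have := congrArg (· ≫ Q.iCycles (i + 1)) hk
    simpa using this
  · refine Preadditive.epi_of_cancel_zero _ fun {Z} g hg => ?_
    obtain ⟨l, hl⟩ := CokernelCofork.IsColimit.desc' (Q.homologyIsCokernel i (i + 1) (by simp)) g hg
    rw [← hl, show l = 0 from h.eq_of_src _ _, comp_zero]

omit [HasDerivedCategory.{u} (Sheaf J AddCommGrpCat.{u})] in
/-- Sections of a bounded below exact complex are exact far enough to the right. -/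
theorem exactAt_sections (U : C) (Q : CochainComplex (Sheaf J AddCommGrpCat.{u}) ℤ) (hQ : Q.Acyclic)
    (a : ℤ) [Q.IsStrictlyGE a] (r : ℕ) (hr : 1 ≤ r) (n : ℤ) (hQr : ∀ m, CdLE r U (Q.X m))
    (hQ1 : ∀ m, n ≤ m → CdLE 1 U (Q.X m)) (i : ℤ) (hi : n + r ≤ i) :
    (secCx U Q).ExactAt i := by
  have hcd : ∀ k : ℕ, ∀ m : ℤ, m < a + k → CdLE r U (Q.cycles m) := by
    intro k
    induction k with
    | zero =>
      exact fun m hm => cdLE_of_isZero r U
        (IsZero.of_mono (Q.iCycles m) (Q.isZero_of_isStrictlyGE a m (by omega)))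
    | succ k ih =>
      intro m hm
      by_cases h : m < a + k
      · exact ih m h
      · obtain ⟨w, hw⟩ := shortExact_cycles Q hQ (m - 1)
        have := cdLE_X₃ hw (ih (m - 1) (by omega)) (hQr (m - 1))
        simpa using this
  have hcd' : ∀ m, CdLE r U (Q.cycles m) := fun m => hcd (m - a + 1).toNat m (by omega)
  have hshift : ∀ t : ℕ, ∀ m : ℤ, n + t ≤ m → CdLE (max 1 (r - t)) U (Q.cycles m) := by
    intro t
    induction t with
    | zero => exact fun m _ => cdLE_mono (by omega) (hcd' m)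
    | succ t ih =>
      intro m hm
      obtain ⟨w, hw⟩ := shortExact_cycles Q hQ (m - 1)
      have h₁ := ih (m - 1) (by omega)
      have h₂ := hQ1 (m - 1) (by omega)
      intro k hk
      have := subsingleton_HU_X₃ hw U (k + 1) (h₁ (k + 1) (by omega)) (h₂ k (by omega))
      simpa using this
  obtain ⟨w, hw⟩ := shortExact_cycles Q hQ (i - 1)
  have hsurj := surjective_sections_of_HU_one hw U (hshift (r - 1) (i - 1) (by omega) 0 (by omega))
  rw [HomologicalComplex.exactAt_iff' _ (i - 1) i (i + 1) (by simp) (by simp), ShortComplex.ab_exact_iff]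
  intro x hx
  have hx' : (secEquiv J U (Q.X i)).symm x ≫ Q.d i (i + 1) = 0 := by
    rw [secEquiv_symm_comp]
    exact (congrArg _ hx).trans (map_zero _)
  let y := secEquiv J U _ (Q.liftCycles ((secEquiv J U (Q.X i)).symm x) (i + 1) (by simp) hx')
  have hy : ((Q.iCycles i).hom.app (op U)).hom y = x := by
    rw [← secEquiv_comp, Q.liftCycles_i, AddEquiv.apply_symm_apply]
  have key : ∀ (j : ℤ) (hj : j = i) (y : (Q.cycles j).obj.obj (op U)),
      Function.Surjective ((Q.toCycles (i - 1) j).hom.app (op U)).hom →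
      ∃ t, ((Q.d (i - 1) j).hom.app (op U)).hom t = ((Q.iCycles j).hom.app (op U)).hom y := by
    intro j _ y hs
    obtain ⟨t, ht⟩ := hs y
    exact ⟨t, by rw [← Q.toCycles_i (i - 1) j, ← ht]; rfl⟩
  have hs' : ∀ j, i - 1 + 1 = j →
      Function.Surjective ((Q.toCycles (i - 1) j).hom.app (op U)).hom := by
    rintro j rfl
    exact hsurj
  obtain ⟨t, ht⟩ := key i rfl y (hs' i (by omega))
  exact ⟨t, ht.trans hy⟩

omit [HasDerivedCategory.{u} (Sheaf J AddCommGrpCat.{u})] in
lemma acyclic_cone {F G : CochainComplex (Sheaf J AddCommGrpCat.{u}) ℤ} (φ : F ⟶ G)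
    [h : QuasiIso φ] : (CochainComplex.mappingCone φ).Acyclic := by
  rw [← HomotopyCategory.quotient_obj_mem_subcategoryAcyclic_iff_acyclic]
  refine ((HomotopyCategory.subcategoryAcyclic _).trW_iff_of_distinguished _
    (HomotopyCategory.mappingCone_triangleh_distinguished φ)).1 ?_
  rw [← HomotopyCategory.quasiIso_eq_trW_subcategoryAcyclic]
  exact (HomotopyCategory.quotient_map_mem_quasiIso_iff φ).2 h

/-- A complex in degrees `≤ n` with terms of cohomological dimension `< r`. -/
theorem subsingleton_hdu (U : C) (K : CochainComplex (Sheaf J AddCommGrpCat.{u}) ℤ) (a : ℤ)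
    [K.IsStrictlyGE a] (n : ℤ) (hn : ∀ m, n < m → IsZero (K.X m)) (r : ℕ) (hr : 1 ≤ r)
    (hK : ∀ m, CdLE r U (K.X m)) (i : ℤ) (hi : n + r ≤ i) :
    Subsingleton (CohCx.HDU (DerivedCategory.Q.obj K) i U) := by
  obtain ⟨I, s, hI, hinj, hm, hs, he⟩ := exists_resolution U K a
  haveI := hI
  haveI := hs
  let Q := CochainComplex.mappingCone s
  let e : ∀ m, Q.X m ≅ K.X (m + 1) ⊞ I.X m := fun m =>
    HomologicalComplex.homotopyCofiber.XIsoBiprod s m (m + 1) rfl
  have hbi : ∀ {t : ℕ} {A B : Sheaf J AddCommGrpCat.{u}}, CdLE t U A → CdLE t U B →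
      CdLE t U (A ⊞ B) := fun {t A B} hA hB =>
    cdLE_X₂ (S := ShortComplex.mk (biprod.inl : A ⟶ A ⊞ B) biprod.snd biprod.inl_snd)
      (ShortComplex.Splitting.ofHasBinaryBiproduct A B).shortExact hA hB
  haveI : Q.IsStrictlyGE (a - 1) := by
    rw [CochainComplex.isStrictlyGE_iff]
    intro m hm
    exact ((biprod_isZero_iff _ _).2 ⟨K.isZero_of_isStrictlyGE a (m + 1) (by omega),
      I.isZero_of_isStrictlyGE a m (by omega)⟩).of_iso (e m)
  have hex := exactAt_sections U Q (acyclic_cone s) (a - 1) r hr n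
    (fun m => cdLE_of_iso (e m).symm (hbi (hK _) (@cdLE_of_injective _ _ _ r U _ (hinj m))))
    (fun m hm => cdLE_of_iso (e m).symm
      (hbi (cdLE_of_isZero 1 U (hn _ (by omega))) (@cdLE_of_injective _ _ _ 1 U _ (hinj m)))) i hi
  have hiso : ∀ m, n ≤ m → IsIso ((CochainComplex.mappingCone.inr s).f m) := fun m hm => by
    have h1 : (CochainComplex.mappingCone.inl s).v (m + 1) m (by omega) = 0 :=
      (hn (m + 1) (by omega)).eq_of_src _ _
    refine ⟨(CochainComplex.mappingCone.snd s).v m m (add_zero m), by simp, ?_⟩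
    have := CochainComplex.mappingCone.id_X s m (m + 1) rfl
    rw [h1, comp_zero, zero_add] at this
    exact this
  refine AddCommGrpCat.subsingleton_of_isZero
    (G := AddCommGrpCat.of (CohCx.HDU (DerivedCategory.Q.obj K) i U)) (IsZero.of_iso ?_ (he i).some)
  rw [← HomologicalComplex.exactAt_iff_isZero_homology,
    HomologicalComplex.exactAt_iff' _ (i - 1) i (i + 1) (by simp) (by simp)]
  rw [HomologicalComplex.exactAt_iff' _ (i - 1) i (i + 1) (by simp) (by simp)] at hex
  let f := ((sec U).mapHomologicalComplex (ComplexShape.up ℤ)).map (CochainComplex.mappingCone.inr s)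
  have hf : ∀ m, n ≤ m → IsIso (f.f m) := fun m hm => by
    haveI := hiso m hm
    exact inferInstanceAs (IsIso ((sec U).map ((CochainComplex.mappingCone.inr s).f m)))
  let φ := (HomologicalComplex.shortComplexFunctor' AddCommGrpCat.{u} (ComplexShape.up ℤ)
    (i - 1) i (i + 1)).map f
  haveI : IsIso φ.τ₁ := hf (i - 1) (by omega)
  haveI : IsIso φ.τ₂ := hf i (by omega)
  haveI : IsIso φ.τ₃ := hf (i + 1) (by omega)
  haveI : IsIso φ := ShortComplex.isIso_of_isIso φ
  exact (ShortComplex.exact_iff_of_iso (asIso φ)).2 hex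

end Groth.Agent.AcycHyper7
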