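import Groth.Agent.AcycHyper7.Basic
import Groth.Agent.ExtPow7.Basics
import Groth.Agent.SmoothCrit.Omega
import Groth.Agent.QCoh.Bound
import Groth.Agent.PnCoh.Chow.Relative
import Groth.Agent.SmoothDim.Basic
import Groth.Prelude.Def_DeRham2

/-!
# The de Rham complex: hypercohomology from sections and vanishing of high forms
-/

set_option autoImplicit false
set_option linter.style.haveILetI false
set_option backward.isDefEq.respectTransparency false
set_option backward.isDefEq.respectTransparency.types false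

universe u v v' w w'

open CategoryTheory CategoryTheory.Limits AlgebraicGeometry Opposite TopologicalSpace

namespace Groth.Agent.AcycHyper7

section Extend

variable {C : Type w} [Category.{v} C] [Preadditive C] [HasZeroObject C]
  {D : Type w'} [Category.{v'} D] [Preadditive D] [HasZeroObject D]
  (G : C ⥤ D) [G.Additive] (K : CochainComplex C ℕ)

omit [Preadditive C] [HasZeroObject C] [Preadditive D] [HasZeroObject D] [G.Additive] in
lemma mapExtend_aux {X X' Y Y' : C} {Z Z' : D} (a : X ≅ X') (b : Y ≅ Y') (d : X' ⟶ Y') (eX : Z ≅ G.obj X')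
    (eY : Z' ≅ G.obj Y') : (G.mapIso a ≪≫ eX.symm).hom ≫ (eX.hom ≫ G.map d ≫ eY.inv) =
      G.map (a.hom ≫ d ≫ b.inv) ≫ (G.mapIso b ≪≫ eY.symm).hom := by
  simp only [Iso.trans_hom, Functor.mapIso_hom, Iso.symm_hom, Category.assoc, Iso.inv_hom_id_assoc]
  rw [← G.map_comp_assoc, ← G.map_comp_assoc, Category.assoc, Category.assoc, Iso.inv_hom_id, Category.comp_id]

open Classical in
/-- An additive functor commutes with extension by zero to all integer degrees. -/
noncomputable def mapExtendUpIso :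
    (G.mapHomologicalComplex (ComplexShape.up ℤ)).obj (K.extend ComplexShape.embeddingUpNat) ≅
      ((G.mapHomologicalComplex (ComplexShape.up ℕ)).obj K).extend ComplexShape.embeddingUpNat :=
  HomologicalComplex.Hom.isoOfComponents
    (fun i' => if h : ∃ i, ComplexShape.embeddingUpNat.f i = i' then
        G.mapIso (K.extendXIso _ h.choose_spec) ≪≫
          (HomologicalComplex.extendXIso ((G.mapHomologicalComplex (ComplexShape.up ℕ)).obj K) _ h.choose_spec).symm
      else
        (G.map_isZero (K.isZero_extend_X ComplexShape.embeddingUpNat i' (fun i hi => h ⟨i, hi⟩))).iso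
          (HomologicalComplex.isZero_extend_X _ ComplexShape.embeddingUpNat i' (fun i hi => h ⟨i, hi⟩)))
    (fun i' j' _ => by
      by_cases hi : ∃ i, ComplexShape.embeddingUpNat.f i = i'
      swap
      · exact (G.map_isZero (K.isZero_extend_X ComplexShape.embeddingUpNat i' (fun i h => hi ⟨i, h⟩))).eq_of_src _ _
      by_cases hj : ∃ j, ComplexShape.embeddingUpNat.f j = j'
      swap
      · exact (HomologicalComplex.isZero_extend_X _ ComplexShape.embeddingUpNat j' (fun j h => hj ⟨j, h⟩)).eq_of_tgt _ _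
      rw [dif_pos hi, dif_pos hj]
      simp only [Functor.mapHomologicalComplex_obj_d]
      rw [HomologicalComplex.extend_d_eq _ _ hi.choose_spec hj.choose_spec,
        HomologicalComplex.extend_d_eq _ _ hi.choose_spec hj.choose_spec]
      exact mapExtend_aux G _ _ _ _ _)

end Extend

variable {X S : Scheme.{u}} {f : X ⟶ S} {Ω' : X.Modules} {δ : OmegaSh.Der f Ω'}
  (D : DeRhamSh.Cx f Ω' δ)

lemma isZero_KZ_of_neg (m : ℤ) (hm : m < 0) : IsZero (D.KZ.X m) :=
  HomologicalComplex.isZero_extend_X _ _ m fun i (hi : (i : ℤ) = m) => by omega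

instance isStrictlyGE_KZ : D.KZ.IsStrictlyGE 0 := by
  rw [CochainComplex.isStrictlyGE_iff]
  exact isZero_KZ_of_neg D

/-- Properties of all terms give properties of the extended complex. -/
lemma cdLE_KZ {r : ℕ} {U : X.Opens}
    (h : ∀ p, CdLE (J := Opens.grothendieckTopology ↥X) r U (Coh.toAb (D.term p))) (m : ℤ) :
    CdLE (J := Opens.grothendieckTopology ↥X) r U (D.KZ.X m) := by
  rcases lt_or_ge m 0 with hm | hm
  · exact cdLE_of_isZero r U (isZero_KZ_of_neg D m hm)
  · obtain ⟨p, rfl⟩ := Int.eq_ofNat_of_zero_le hm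
    exact cdLE_of_iso ((D.K.extendXIso _ (rfl : ComplexShape.embeddingUpNat.f p = (p : ℤ))) ≪≫
      D.iso p).symm (h p)

/-- The complex of sections of a de Rham complex. -/
noncomputable abbrev sections (U : X.Opens) : CochainComplex AddCommGrpCat.{u} ℕ :=
  ((sec (J := Opens.grothendieckTopology ↥X) U).mapHomologicalComplex (ComplexShape.up ℕ)).obj D.K

lemma cdLE_one_toAb {M : X.Modules} (hM : Coh.IsQCoh M) {U : X.Opens} (hU : IsAffineOpen U) :
    CdLE (J := Opens.grothendieckTopology ↥X) 1 U (Coh.toAb M) :=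
  fun k _ => QCoh.subsingleton_HU_of_isAffineOpen hM hU k

variable [HasDerivedCategory.{u} (Sheaf (Opens.grothendieckTopology ↥X) AddCommGrpCat.{u})]

/-- On an affine open, de Rham cohomology is the cohomology of the complex of sections. -/
theorem nonempty_hdRU_iso (hq : ∀ p, Coh.IsQCoh (D.term p)) {U : X.Opens} (hU : IsAffineOpen U)
    (n : ℕ) : Nonempty (AddCommGrpCat.of (DeRhamSh.HdRU D (n : ℤ) U) ≅ (sections D U).homology n) := by
  obtain ⟨e⟩ := nonempty_iso_homology U D.KZ 0 (cdLE_KZ D fun p => cdLE_one_toAb (hq p) hU) (n : ℤ)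
  exact ⟨e ≪≫ (HomologicalComplex.homologyFunctor _ _ (n : ℤ)).mapIso (mapExtendUpIso _ D.K) ≪≫
    HomologicalComplex.extendHomologyIso _ _ (rfl : ComplexShape.embeddingUpNat.f n = (n : ℤ))⟩

/-- On an affine open, de Rham cohomology vanishes in negative degrees. -/
theorem subsingleton_hdRU_neg (hq : ∀ p, Coh.IsQCoh (D.term p)) {U : X.Opens} (hU : IsAffineOpen U)
    (i : ℤ) (hi : i < 0) : Subsingleton (DeRhamSh.HdRU D i U) := by
  obtain ⟨e⟩ := nonempty_iso_homology U D.KZ 0 (cdLE_KZ D fun p => cdLE_one_toAb (hq p) hU) i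
  refine AddCommGrpCat.subsingleton_of_isZero (G := AddCommGrpCat.of (DeRhamSh.HdRU D i U))
    (IsZero.of_iso ?_ e)
  rw [← HomologicalComplex.exactAt_iff_isZero_homology]
  exact ShortComplex.exact_of_isZero_X₂ _ ((sec U).map_isZero (isZero_KZ_of_neg D i hi))

omit [HasDerivedCategory.{u} (Sheaf (Opens.grothendieckTopology ↥X) AddCommGrpCat.{u})] in
/-- Vanishing of terms. -/
lemma isZero_K_X {p : ℕ} (h : IsZero (D.term p)) : IsZero (D.K.X p) :=
  ((SheafOfModules.toSheaf _).map_isZero h).of_iso (D.iso p)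

/-- A de Rham complex in degrees `≤ n` with terms of cohomological dimension `< r`. -/
theorem subsingleton_hdR (n : ℕ) (hn : ∀ p, n < p → IsZero (D.term p)) (r : ℕ) (hr : 1 ≤ r)
    (hcd : ∀ p, CdLE (J := Opens.grothendieckTopology ↥X) r (⊤ : X.Opens) (Coh.toAb (D.term p)))
    (i : ℤ) (hi : (n : ℤ) + r ≤ i) : Subsingleton (DeRhamSh.HdR D i) := by
  refine subsingleton_hdu (⊤ : X.Opens) D.KZ 0 n (fun m hm => ?_) r hr (cdLE_KZ D hcd) i hi
  obtain ⟨p, rfl⟩ := Int.eq_ofNat_of_zero_le (show 0 ≤ m by omega)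
  exact (isZero_K_X D (hn p (by omega))).of_iso
    (D.K.extendXIso _ (rfl : ComplexShape.embeddingUpNat.f p = (p : ℤ)))

section Smooth

variable {k : Type u} [Field k] {Y : Scheme.{u}} (g : Y ⟶ Spec (CommRingCat.of k)) [QuasiSeparated g]

lemma exists_chart [Smooth g] (n : ℕ) (hn : topologicalKrullDim ↥Y ≤ n) (y : Y) :
    ∃ (V : Y.Opens) (_ : IsAffineOpen V) (m : ℕ), y ∈ V ∧ m ≤ n ∧
      Nonempty (Γ(Omega.sheaf g, V) ≃ₗ[Γ(Y, V)] (Fin m → Γ(Y, V))) := by
  obtain ⟨W, hW, V, hV, hy, e, hstd⟩ := Smooth.exists_isStandardSmooth g y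
  haveI : Subsingleton (Spec (CommRingCat.of k)) := inferInstanceAs (Subsingleton (PrimeSpectrum k))
  obtain rfl : W = ⊤ := top_le_iff.1 fun x _ => Subsingleton.elim (g y) x ▸ e hy
  letI aV := (g.appLE ⊤ V e).hom.toAlgebra
  haveI : Algebra.IsStandardSmooth Γ(Spec (CommRingCat.of k), ⊤) Γ(Y, V) := hstd
  haveI : Nonempty V := ⟨⟨y, hy⟩⟩
  obtain ⟨I, J, _, _, ⟨P⟩⟩ := ‹Algebra.IsStandardSmooth Γ(Spec (CommRingCat.of k), ⊤) Γ(Y, V)›.out
  haveI : Algebra.IsStandardSmoothOfRelativeDimension P.dimension Γ(Spec (CommRingCat.of k), ⊤) Γ(Y, V) :=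
    ⟨I, J, inferInstance, inferInstance, P, rfl⟩
  have hF : IsField Γ(Spec (CommRingCat.of k), ⊤) :=
    (Scheme.ΓSpecIso (CommRingCat.of k)).commRingCatIsoToRingEquiv.toMulEquiv.isField (Field.toIsField k)
  letI := hF.toField
  have hdim : (P.dimension : WithBot ℕ∞) ≤ n := by
    rw [← SmoothDim.ringKrullDim_eq Γ(Spec (CommRingCat.of k), ⊤) Γ(Y, V) P.dimension,
      ← PrimeSpectrum.topologicalKrullDim_eq_ringKrullDim]
    exact le_trans (hV.fromSpec.isOpenEmbedding.isInducing.topologicalKrullDim_le) hn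
  refine ⟨V, hV, P.dimension, hy, by exact_mod_cast hdim, ?_⟩
  let T : Ω[Γ(Y, V)⁄Γ(Spec (CommRingCat.of k), ⊤)] ≃ₗ[Γ(Y, V)] Γ(Omega.sheaf g, V) :=
    LinearEquiv.ofBijective (OmAff.toSect g ⊤ V e).hom (OmegaUniv.toSect_bijective g hV hW e)
  exact ⟨T.symm.trans (Module.finBasisOfFinrankEq _ _ (Module.finrank_eq_of_rank_eq
    (Algebra.IsStandardSmoothOfRelativeDimension.rank_kaehlerDifferential
      (R := Γ(Spec (CommRingCat.of k), ⊤)) (S := Γ(Y, V)) P.dimension))).equivFun⟩

theorem isFinLocFree_omega [Smooth g] (n : ℕ) (hn : topologicalKrullDim ↥Y ≤ n) :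
    FlatMod.IsFinLocFree (Omega.sheaf g) := fun y => by
  obtain ⟨V, hV, m, hy, -, ⟨l⟩⟩ := exists_chart g n hn y
  exact ⟨V, m, hy, QCoh.exists_free_restrict (OmegaUniv.isQCoh_omega g) hV
    (l.trans ((Finsupp.linearEquivFunOnFinite _ _ _).symm.trans
      (Finsupp.domLCongr Equiv.ulift.{u}.symm)))⟩

theorem isQCoh_term [Smooth g] (n : ℕ) (hn : topologicalKrullDim ↥Y ≤ n) (E : DeRhamSh.OmegaCx g)
    (p : ℕ) : Coh.IsQCoh (E.term p) :=
  QCoh.isQCoh_of_isFinLocFree
    (ExtPow7.isFinLocFree_of_isExtPow (isFinLocFree_omega g n hn) (E.isExtPow p))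

/-- No forms above the dimension. -/
theorem isZero_term [Smooth g] (n : ℕ) (hn : topologicalKrullDim ↥Y ≤ n) (E : DeRhamSh.OmegaCx g)
    (p : ℕ) (hp : n < p) : IsZero (E.term p) := by
  refine QCoh.isZero_of_cover (isQCoh_term g n hn E p)
    (fun y => (exists_chart g n hn y).choose) (fun y => (exists_chart g n hn y).choose_spec.choose)
    (fun y => ⟨y, (exists_chart g n hn y).choose_spec.choose_spec.choose_spec.1⟩) fun y => ?_
  obtain ⟨hV, m, hy, hm, ⟨l⟩⟩ := (exists_chart g n hn y).choose_spec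
  let b := ((Pi.basisFun Γ(Y, (exists_chart g n hn y).choose) (Fin m)).map l.symm).exteriorPower p
  haveI : IsEmpty (Set.powersetCard (Fin m) p) := ⟨fun A => by
    have h1 := A.2
    rw [Set.powersetCard.mem_iff] at h1
    have := Finset.card_le_univ A.1
    rw [Fintype.card_fin] at this
    omega⟩
  haveI := b.repr.toEquiv.subsingleton
  exact (E.loc p ⟨_, hV⟩).toEquiv.subsingleton

end Smooth

end Groth.Agent.AcycHyper7
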