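import Groth.Prelude.Def_E1Deg2
import Groth.Prelude.Def_KLinDR
import Mathlib.Algebra.Homology.DerivedCategory.Fractions
import Mathlib.Algebra.Homology.DerivedCategory.ShortExact

/-!
# Dévissage of hypercohomology along the stupid filtration

Exact sequences of `E1Deg.HT` attached to `σ_{≥ i+1} K → σ_{≥ i} K → K^i[-i]`, with linear actions.
-/

set_option autoImplicit false
set_option linter.style.haveILetI false
set_option backward.isDefEq.respectTransparency false
set_option backward.isDefEq.respectTransparency.types false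
set_option linter.unusedSectionVars false
set_option maxHeartbeats 1000000

universe w w' v u u'

open CategoryTheory CategoryTheory.Limits CategoryTheory.Pretriangulated E1Deg DerivedCategory

namespace Groth.Agent.AcycHyper7.Dev

variable {A : Type u} [Category.{v} A] [Abelian A]

/-- The short complex of two consecutive steps of the stupid filtration. -/
noncomputable def succSC (K : CochainComplex A ℤ) (i : ℤ) : ShortComplex (CochainComplex A ℤ) :=
  ShortComplex.mk (sigmaGEιSucc K i) (sigmaGEπ K i) (HomologicalComplex.hom_ext _ _ fun m => by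
    by_cases hm : m = i
    · subst hm
      exact (K.isZero_stupidTrunc_X (emb (m + 1)) m fun k => by
        simp only [ComplexShape.embeddingUpIntGE_f]; omega).eq_of_src _ _
    · exact (HomologicalComplex.isZero_single_obj_X (ComplexShape.up ℤ) i (K.X i) m hm).eq_of_tgt _ _)

lemma shortExact_succSC (K : CochainComplex A ℤ) (i : ℤ) : (succSC K i).ShortExact := by
  refine HomologicalComplex.shortExact_of_degreewise_shortExact _ fun m => ?_
  set S := (succSC K i).map (HomologicalComplex.eval A (ComplexShape.up ℤ) m)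
  rcases lt_trichotomy m i with h | rfl | h
  · have h₁ : IsZero S.X₁ := K.isZero_stupidTrunc_X (emb (i + 1)) m fun k => by
      simp only [ComplexShape.embeddingUpIntGE_f]; omega
    have h₂ : IsZero S.X₂ := K.isZero_stupidTrunc_X (emb i) m fun k => by
      simp only [ComplexShape.embeddingUpIntGE_f]; omega
    have h₃ : IsZero S.X₃ :=
      HomologicalComplex.isZero_single_obj_X (ComplexShape.up ℤ) i (K.X i) m (by omega)
    exact
      { exact := ShortComplex.exact_of_isZero_X₂ _ h₂
        mono_f := ⟨fun _ _ _ => h₁.eq_of_tgt _ _⟩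
        epi_g := ⟨fun _ _ _ => h₃.eq_of_src _ _⟩ }
  · have h₁ : IsZero S.X₁ := K.isZero_stupidTrunc_X (emb (m + 1)) m fun k => by
      simp only [ComplexShape.embeddingUpIntGE_f]; omega
    haveI : IsIso S.g := by
      change IsIso ((sigmaGEπ K m).f m)
      rw [sigmaGEπ_f]
      infer_instance
    exact
      { exact := (ShortComplex.exact_iff_mono S (h₁.eq_of_src _ _)).2 inferInstance
        mono_f := ⟨fun _ _ _ => h₁.eq_of_tgt _ _⟩
        epi_g := inferInstance }
  · have h₃ : IsZero S.X₃ :=
      HomologicalComplex.isZero_single_obj_X (ComplexShape.up ℤ) i (K.X i) m (by omega)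
    haveI : IsIso S.f := by
      change IsIso ((sigmaGEιSucc K i).f m)
      rw [sigmaGEιSucc_f_eq K i (n := (m - (i + 1)).toNat) (by
        simp only [ComplexShape.embeddingUpIntGE_f]; omega)]
      infer_instance
    exact
      { exact := (ShortComplex.exact_iff_epi S (h₃.eq_of_tgt _ _)).2 inferInstance
        mono_f := inferInstance
        epi_g := ⟨fun _ _ _ => h₃.eq_of_src _ _⟩ }

variable [HasDerivedCategory.{w} A]

section Triangle

variable (T : A) {S : ShortComplex (CochainComplex A ℤ)}

/-- `Hom(T⟦-n⟧, X) ≃ Hom(T, X⟦n⟧)`. -/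
noncomputable def tr (n : ℤ) (X : DerivedCategory A) :
    (((DerivedCategory.singleFunctor A 0).obj T)⟦-n⟧ ⟶ X) ≃
      ((DerivedCategory.singleFunctor A 0).obj T ⟶ X⟦n⟧) :=
  (shiftEquiv' (DerivedCategory A) (-n) n (by omega)).toAdjunction.homEquiv _ _

lemma tr_comp (n : ℤ) {X Y : DerivedCategory A}
    (x : ((DerivedCategory.singleFunctor A 0).obj T)⟦-n⟧ ⟶ X) (g : X ⟶ Y) :
    tr T n Y (x ≫ g) = tr T n X x ≫ g⟦n⟧' :=
  Adjunction.homEquiv_naturality_right _ _ _

lemma tr_zero (n : ℤ) (X : DerivedCategory A) : tr T n X 0 = 0 := by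
  have h := tr_comp T n (X := X) (Y := X) 0 0
  rwa [zero_comp, Functor.map_zero, comp_zero] at h

lemma subsingleton_tr (n m : ℤ) (K : CochainComplex A ℤ) (r : ℤ) (hr : r + n = m)
    [Subsingleton (HT T K m)] :
    Subsingleton (((DerivedCategory.singleFunctor A 0).obj T)⟦-n⟧ ⟶ (DerivedCategory.Q.obj K)⟦r⟧) :=
  ((tr T n _).trans (Iso.homToEquiv
    ((shiftFunctorAdd' (DerivedCategory A) r n m hr).app (DerivedCategory.Q.obj K)).symm)).subsingleton

variable (hS : S.ShortExact)
include hS

theorem exists_preimage (n : ℤ) (x : HT T S.X₂ n) (hx : HTmap T S.g n x = 0) :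
    ∃ y : HT T S.X₁ n, HTmap T S.f n y = x := by
  obtain ⟨x, rfl⟩ := (tr T n (DerivedCategory.Q.obj S.X₂)).surjective x
  have h : x ≫ DerivedCategory.Q.map S.g = 0 := by
    apply (tr T n _).injective
    rw [tr_comp, tr_zero]
    exact hx
  obtain ⟨y, hy⟩ := Triangle.coyoneda_exact₂ _ (triangleOfSES_distinguished hS) x h
  refine ⟨tr T n _ y, ?_⟩
  rw [hy, HTmap_apply]
  exact (tr_comp T n y _).symm

theorem surjective_g (n m : ℤ) (hm : m = n + 1) [Subsingleton (HT T S.X₁ m)] :
    Function.Surjective (HTmap T S.g n) := by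
  intro z
  obtain ⟨z, rfl⟩ := (tr T n (DerivedCategory.Q.obj S.X₃)).surjective z
  have h1 := subsingleton_tr T n m S.X₁ 1 (by omega)
  obtain ⟨y, hy⟩ := Triangle.coyoneda_exact₃ _ (triangleOfSES_distinguished hS) z (h1.elim _ _)
  refine ⟨tr T n _ y, ?_⟩
  rw [hy, HTmap_apply]
  exact (tr_comp T n y _).symm

theorem injective_f (n m : ℤ) (hm : m = n - 1) [Subsingleton (HT T S.X₃ m)] :
    Function.Injective (HTmap T S.f n) := by
  rw [injective_iff_map_eq_zero]
  intro y hy
  obtain ⟨y, rfl⟩ := (tr T n (DerivedCategory.Q.obj S.X₁)).surjective y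
  have h : y ≫ DerivedCategory.Q.map S.f = 0 := by
    apply (tr T n _).injective
    rw [tr_comp, tr_zero]
    exact hy
  have h1 := subsingleton_tr T n m S.X₃ (-1) (by omega)
  obtain ⟨z, hz⟩ := Triangle.coyoneda_exact₂ _ (inv_rot_of_distTriang _ (triangleOfSES_distinguished hS)) y h
  have hz0 : z = 0 := h1.elim z 0
  rw [hz, hz0, zero_comp]
  exact tr_zero T n _

theorem injective_g (n : ℤ) [Subsingleton (HT T S.X₁ n)] : Function.Injective (HTmap T S.g n) := by
  rw [injective_iff_map_eq_zero]
  intro x hx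
  obtain ⟨y, rfl⟩ := exists_preimage T hS n x hx
  rw [Subsingleton.elim y 0, map_zero]

theorem surjective_f (n : ℤ) [Subsingleton (HT T S.X₃ n)] : Function.Surjective (HTmap T S.f n) :=
  fun x => exists_preimage T hS n x (Subsingleton.elim _ _)

theorem subsingleton_X₂ (n : ℤ) [Subsingleton (HT T S.X₁ n)] [Subsingleton (HT T S.X₃ n)] :
    Subsingleton (HT T S.X₂ n) :=
  (injective_g T hS n).subsingleton

end Triangle

variable (T : A) (K : CochainComplex A ℤ)

/-- No hypercohomology below the degrees of the complex. -/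
theorem subsingleton_of_lt (a : ℤ) [K.IsStrictlyGE a] (n : ℤ) (hn : n < a) : Subsingleton (HT T K n) := by
  haveI : (K⟦n⟧).IsStrictlyGE (a - n) := K.isStrictlyGE_shift a n (a - n) (by omega)
  have hh := DerivedCategory.subsingleton_hom_of_isStrictlyLE_of_isStrictlyGE
    ((CochainComplex.singleFunctor A 0).obj T) (K⟦n⟧) 0 (a - n) (by omega)
  exact @Equiv.subsingleton _ _ (Iso.homCongr (((singleFunctorIsoCompQ A 0).app T).symm)
    ((DerivedCategory.Q.commShiftIso n).app K)).symm hh

/-- The group of the piece in degree `i`. -/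
abbrev Gr (i n : ℤ) : Type w := HT T ((HomologicalComplex.single A (ComplexShape.up ℤ) i).obj (K.X i)) n

instance isStrictlyGE_sigmaGE (i : ℤ) : (sigmaGE K i).IsStrictlyGE i := by
  rw [CochainComplex.isStrictlyGE_iff]
  exact fun m hm => K.isZero_stupidTrunc_X (emb i) m fun k => by
    simp only [ComplexShape.embeddingUpIntGE_f]; omega

/-- Vanishing of the steps of the stupid filtration from that of the pieces. -/
theorem subsingleton_sigmaGE (n : ℤ) (i : ℤ) (h : ∀ p, i ≤ p → p ≤ n → Subsingleton (Gr T K p n)) :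
    Subsingleton (HT T (sigmaGE K i) n) := by
  suffices H : ∀ d : ℕ, ∀ i : ℤ, n < i + d → (∀ p, i ≤ p → p ≤ n → Subsingleton (Gr T K p n)) →
      Subsingleton (HT T (sigmaGE K i) n) from H (n - i + 1).toNat i (by omega) h
  intro d
  induction d with
  | zero => exact fun i hi _ => subsingleton_of_lt T _ i n (by omega)
  | succ d ih =>
    intro i hi h
    rcases lt_or_ge n i with hlt | hge
    · exact subsingleton_of_lt T _ i n hlt
    haveI : Subsingleton (HT T (succSC K i).X₁ n) :=
      ih (i + 1) (by omega) fun p hp => h p (by omega)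
    haveI : Subsingleton (HT T (succSC K i).X₃ n) := h i le_rfl hge
    exact subsingleton_X₂ T (shortExact_succSC K i) n

theorem injective_ι_succ (n m i : ℤ) (hm : m = n - 1) [Subsingleton (Gr T K i m)] :
    Function.Injective (HTmap T (sigmaGEιSucc K i) n) :=
  @injective_f A _ _ _ T (succSC K i) (shortExact_succSC K i) n m hm ‹_›

theorem surjective_ι_succ (n i : ℤ) [Subsingleton (Gr T K i n)] :
    Function.Surjective (HTmap T (sigmaGEιSucc K i) n) :=
  @surjective_f A _ _ _ T (succSC K i) (shortExact_succSC K i) n ‹_›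

theorem bijective_π (n i : ℤ) (h₀ : ∀ p, i < p → p ≤ n → Subsingleton (Gr T K p n))
    (h₁ : ∀ p, i < p → p ≤ n + 1 → Subsingleton (Gr T K p (n + 1))) :
    Function.Bijective (HTmap T (sigmaGEπ K i) n) := by
  haveI : Subsingleton (HT T (succSC K i).X₁ n) := subsingleton_sigmaGE T K n (i + 1) fun p hp => h₀ p (by omega)
  haveI : Subsingleton (HT T (succSC K i).X₁ (n + 1)) :=
    subsingleton_sigmaGE T K (n + 1) (i + 1) fun p hp => h₁ p (by omega)
  exact ⟨injective_g T (shortExact_succSC K i) n, surjective_g T (shortExact_succSC K i) n (n + 1) rfl⟩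

theorem bijective_HTmap_of_isIso {L : CochainComplex A ℤ} (φ : K ⟶ L) [IsIso φ] (n : ℤ) :
    Function.Bijective (HTmap T φ n) :=
  Function.bijective_iff_has_inverse.2 ⟨HTmap T (inv φ) n,
    fun x => by rw [← HTmap_comp, IsIso.hom_inv_id, HTmap_id],
    fun x => by rw [← HTmap_comp, IsIso.inv_hom_id, HTmap_id]⟩

variable (a : ℤ) [K.IsStrictlyGE a]

theorem bijective_ι (n i : ℤ) (hai : a ≤ i) (h₀ : ∀ p, a ≤ p → p < i → Subsingleton (Gr T K p n))
    (h₁ : ∀ p, a ≤ p → p < i → Subsingleton (Gr T K p (n - 1))) :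
    Function.Bijective (HTmap T (sigmaGEι K i) n) := by
  obtain ⟨d, rfl⟩ := Int.le.dest hai
  clear hai
  induction d with
  | zero =>
    haveI := isIso_sigmaGEι K (a + (0 : ℕ)) fun m hm => K.isZero_of_isStrictlyGE a m (by omega)
    exact bijective_HTmap_of_isIso T _ _ n
  | succ d ih =>
    have hb := ih (fun p hp hp' => h₀ p hp (by omega)) (fun p hp hp' => h₁ p hp (by omega))
    haveI := h₀ (a + d) (by omega) (by omega)
    haveI := h₁ (a + d) (by omega) (by omega)
    have he : a + ((d + 1 : ℕ) : ℤ) = a + (d : ℤ) + 1 := by omega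
    rw [he]
    have hcomp : (HTmap T (sigmaGEι K (a + d + 1)) n : _ → HT T K n) =
        HTmap T (sigmaGEι K (a + d)) n ∘ HTmap T (sigmaGEιSucc K (a + d)) n := by
      funext x
      rw [Function.comp_apply, ← HTmap_comp, sigmaGEιSucc_comp_ι]
    rw [hcomp]
    exact hb.comp ⟨injective_ι_succ T K n (n - 1) (a + d) rfl, surjective_ι_succ T K n (a + d)⟩

/-- Vanishing of hypercohomology from that of the pieces. -/
theorem subsingleton_HT (n : ℤ) (h : ∀ p, a ≤ p → p ≤ n → Subsingleton (Gr T K p n)) :
    Subsingleton (HT T K n) := by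
  haveI := subsingleton_sigmaGE T K n a h
  haveI := isIso_sigmaGEι K a fun m hm => K.isZero_of_isStrictlyGE a m hm
  exact (bijective_HTmap_of_isIso T _ (sigmaGEι K a) n).2.subsingleton

section Linear

open KLinDR

variable {K} {R : Type u'} [Ring R] (ρ : R →+* End K) (i : ℤ)

/-- The action on a step of the stupid filtration. -/
noncomputable def rhoGE : R →+* End (sigmaGE K i) where
  toFun r := HomologicalComplex.stupidTruncMap (ρ r) (emb i)
  map_one' := by rw [map_one]; exact HomologicalComplex.stupidTruncMap_id K _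
  map_mul' r s := by rw [map_mul]; exact HomologicalComplex.stupidTruncMap_comp (φ := ρ s) (φ' := ρ r) (e := emb i)
  map_zero' := by
    rw [map_zero]
    change HomologicalComplex.extendMap (HomologicalComplex.restrictionMap (0 : K ⟶ K) (emb i)) (emb i) = 0
    rw [show HomologicalComplex.restrictionMap (0 : K ⟶ K) (emb i) = 0 from rfl,
      HomologicalComplex.extendMap_zero]
  map_add' r s := by
    rw [map_add]
    change HomologicalComplex.extendMap (HomologicalComplex.restrictionMap ((ρ r : K ⟶ K) + ρ s) (emb i)) (emb i) = _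
    rw [show HomologicalComplex.restrictionMap ((ρ r : K ⟶ K) + ρ s) (emb i) =
      HomologicalComplex.restrictionMap (ρ r : K ⟶ K) (emb i) +
        HomologicalComplex.restrictionMap (ρ s : K ⟶ K) (emb i) from rfl, HomologicalComplex.extendMap_add]
    rfl

/-- The action on a piece. -/
noncomputable def rhoGr : R →+* End ((HomologicalComplex.single A (ComplexShape.up ℤ) i).obj (K.X i)) where
  toFun r := (HomologicalComplex.single A (ComplexShape.up ℤ) i).map ((ρ r : K ⟶ K).f i)
  map_one' := by
    rw [map_one]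
    exact (HomologicalComplex.single A (ComplexShape.up ℤ) i).map_id _
  map_mul' r s := by
    rw [map_mul]
    exact (HomologicalComplex.single A (ComplexShape.up ℤ) i).map_comp _ _
  map_zero' := by
    rw [map_zero]
    exact (HomologicalComplex.single A (ComplexShape.up ℤ) i).map_zero _ _
  map_add' r s := by
    rw [map_add]
    exact Functor.map_add (F := HomologicalComplex.single A (ComplexShape.up ℤ) i)

lemma commutes_ι : Commutes (rhoGE ρ i) ρ (sigmaGEι K i) := fun r =>
  HomologicalComplex.hom_ext _ _ fun m => by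
    by_cases hm : ∃ k, (emb i).f k = m
    · obtain ⟨k, hk⟩ := hm
      change (HomologicalComplex.stupidTruncMap (ρ r) (emb i)).f m ≫ (sigmaGEι K i).f m =
        (sigmaGEι K i).f m ≫ (ρ r : K ⟶ K).f m
      rw [sigmaGEι_f_eq K i hk]
      exact HomologicalComplex.stupidTruncMap_stupidTruncXIso_hom (ρ r) (emb i) hk
    · exact (K.isZero_stupidTrunc_X (emb i) m (by simpa using hm)).eq_of_src _ _

lemma commutes_ι_succ : Commutes (rhoGE ρ (i + 1)) (rhoGE ρ i) (sigmaGEιSucc K i) := fun r =>
  HomologicalComplex.hom_ext _ _ fun m => by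
    by_cases hm : ∃ k, (emb (i + 1)).f k = m
    · obtain ⟨k, hk⟩ := hm
      change (HomologicalComplex.stupidTruncMap (ρ r) (emb (i + 1))).f m ≫ (sigmaGEιSucc K i).f m =
        (sigmaGEιSucc K i).f m ≫ (HomologicalComplex.stupidTruncMap (ρ r) (emb i)).f m
      rw [sigmaGEιSucc_f_eq K i hk, ← cancel_mono (K.stupidTruncXIso (emb i) (emb_f_succ i hk)).hom]
      simp only [Category.assoc, Iso.inv_hom_id, Category.comp_id,
        HomologicalComplex.stupidTruncMap_stupidTruncXIso_hom, Iso.inv_hom_id_assoc]
    · exact (K.isZero_stupidTrunc_X (emb (i + 1)) m (by simpa using hm)).eq_of_src _ _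

lemma commutes_π : Commutes (rhoGE ρ i) (rhoGr ρ i) (sigmaGEπ K i) := fun r =>
  HomologicalComplex.to_single_hom_ext (by
    change (HomologicalComplex.stupidTruncMap (ρ r) (emb i)).f i ≫ (sigmaGEπ K i).f i =
      (sigmaGEπ K i).f i ≫ ((HomologicalComplex.single A (ComplexShape.up ℤ) i).map ((ρ r : K ⟶ K).f i)).f i
    rw [sigmaGEπ_f, HomologicalComplex.single_map_f_self]
    simp only [Category.assoc, Iso.inv_hom_id_assoc, HomologicalComplex.stupidTruncMap_stupidTruncXIso_hom_assoc])

include a in
/-- Hypercohomology is that of one piece, linearly, when the other pieces contribute nothing. -/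
theorem nonempty_linearEquiv (n p₀ : ℤ) (hp₀ : a ≤ p₀)
    (h : ∀ p, a ≤ p → p ≠ p₀ → Subsingleton (Gr T K p n))
    (hup : ∀ p, p₀ < p → p ≤ n + 1 → Subsingleton (Gr T K p (n + 1)))
    (hdown : ∀ p, a ≤ p → p < p₀ → Subsingleton (Gr T K p (n - 1))) :
    Nonempty (HTρ T K ρ n ≃ₗ[R] HTρ T _ (rhoGr ρ p₀) n) :=
  ⟨(LinearEquiv.ofBijective (HTρmap T (sigmaGEι K p₀) (commutes_ι ρ p₀) n)
      (bijective_ι T K a n p₀ hp₀ (fun p hp hp' => h p hp (by omega)) hdown)).symm.trans
    (LinearEquiv.ofBijective (HTρmap T (sigmaGEπ K p₀) (commutes_π ρ p₀) n)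
      (bijective_π T K n p₀ (fun p hp _ => h p (by omega) (by omega)) hup))⟩

include a in
/-- Finiteness of hypercohomology from that of the pieces. -/
theorem finite_HTρ [IsNoetherianRing R] (n : ℤ)
    (h : ∀ p, a ≤ p → p ≤ n → Module.Finite R (HTρ T _ (rhoGr ρ p) n)) :
    Module.Finite R (HTρ T K ρ n) := by
  suffices H : ∀ d : ℕ, ∀ i : ℤ, a ≤ i → n < i + d → Module.Finite R (HTρ T _ (rhoGE ρ i) n) by
    haveI := H (n - a + 1).toNat a le_rfl (by omega)
    haveI := isIso_sigmaGEι K a fun m hm => K.isZero_of_isStrictlyGE a m hm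
    exact Module.Finite.of_surjective (HTρmap T (sigmaGEι K a) (commutes_ι ρ a) n)
      (bijective_HTmap_of_isIso T _ (sigmaGEι K a) n).2
  intro d
  induction d with
  | zero =>
    intro i _ hi
    haveI : Subsingleton (HTρ T _ (rhoGE ρ i) n) := subsingleton_of_lt T (sigmaGE K i) i n (by omega)
    exact Module.Finite.of_surjective (0 : R →ₗ[R] HTρ T _ (rhoGE ρ i) n) fun x => ⟨0, Subsingleton.elim _ _⟩
  | succ d ih =>
    intro i hai hi
    rcases lt_or_ge n i with hlt | hge
    · exact ih i hai (by omega)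
    haveI := ih (i + 1) (by omega) (by omega)
    haveI := h i hai hge
    let f := HTρmap T (sigmaGEιSucc K i) (commutes_ι_succ ρ i) n
    let g := HTρmap T (sigmaGEπ K i) (commutes_π ρ i) n
    refine ⟨Submodule.fg_of_fg_map_of_fg_inf_ker g ?_ ?_⟩
    · exact IsNoetherian.noetherian _
    · rw [top_inf_eq, le_antisymm (a := LinearMap.ker g) (b := LinearMap.range f)]
      · rw [LinearMap.range_eq_map]
        exact Submodule.FG.map f Module.Finite.fg_top
      · intro x hx
        exact exists_preimage T (shortExact_succSC K i) n x hx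
      · rintro x ⟨y, rfl⟩
        change HTmap T (sigmaGEπ K i) n (HTmap T (sigmaGEιSucc K i) n y) = 0
        rw [← HTmap_comp, show sigmaGEιSucc K i ≫ sigmaGEπ K i = 0 from (succSC K i).zero, HTmap_apply,
          Functor.map_zero, Functor.map_zero, comp_zero]

end Linear

section Single

variable [HasExt.{w'} A] {B : A}

/-- Post-composition on the piece in degree `i` is composition of Ext classes. -/
theorem HTsingleEquiv_map {C' : A} (φ : B ⟶ C') (i n : ℤ) (m : ℕ) (h : i + m = n)
    (x : HT T ((HomologicalComplex.single A (ComplexShape.up ℤ) i).obj B) n) :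
    HTsingleEquiv T C' i n m h (HTmap T ((HomologicalComplex.single A (ComplexShape.up ℤ) i).map φ) n x) =
      (HTsingleEquiv T B i n m h x).comp (Abelian.Ext.mk₀ φ) (add_zero m) := by
  apply Abelian.Ext.homAddEquiv.injective
  simp only [HTsingleEquiv, AddEquiv.trans_apply, AddEquiv.apply_symm_apply,
    Abelian.Ext.homAddEquiv_apply, Abelian.Ext.comp_hom, Abelian.Ext.mk₀_hom,
    ShiftedHom.comp_mk₀]
  have hx : ∀ (D : A) (y : HT T ((HomologicalComplex.single A (ComplexShape.up ℤ) i).obj D) n),
      (Abelian.Ext.homAddEquiv.symm (homCongrRight (targetIso D i n m h) y)).hom =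
        y ≫ (targetIso D i n m h).hom := fun D y =>
    Abelian.Ext.homAddEquiv.apply_symm_apply _
  rw [hx]
  change (x ≫ _) ≫ (targetIso C' i n m h).hom = (x ≫ (targetIso B i n m h).hom) ≫ _
  let N : HomologicalComplex.single A (ComplexShape.up ℤ) i ⋙ DerivedCategory.Q ⋙
      shiftFunctor (DerivedCategory A) n ⟶
        DerivedCategory.singleFunctor A 0 ⋙ shiftFunctor (DerivedCategory A) (m : ℤ) :=
    { app := fun D => (targetIso D i n m h).hom
      naturality := fun D D' ψ => by
        let N1 := Functor.whiskerRight ((singleFunctorIsoCompQ A i).inv ≫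
          ((DerivedCategory.singleFunctors A).shiftIso (-i) i 0 (by omega)).inv)
          (shiftFunctor (DerivedCategory A) n)
        let N2 := Functor.whiskerLeft (DerivedCategory.singleFunctor A 0)
          (shiftFunctorAdd' (DerivedCategory A) (-i) n (m : ℤ) (by omega)).inv
        have h1 := N1.naturality ψ
        have h2 := N2.naturality ψ
        have e : ∀ E : A, (targetIso E i n m h).hom = N1.app E ≫ N2.app E := fun E => rfl
        rw [e, e]
        change (_ ≫ N1.app D' ≫ N2.app D') = (N1.app D ≫ N2.app D) ≫ _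
        refine ((Category.assoc _ _ _).symm.trans (congrArg (· ≫ N2.app D') h1)).trans ?_
        refine (Category.assoc _ _ _).trans ?_
        exact (congrArg (N1.app D ≫ ·) h2).trans (Category.assoc _ _ _).symm }
  rw [Category.assoc]
  exact (congrArg (x ≫ ·) (N.naturality φ)).trans (Category.assoc _ _ _).symm

/-- A piece contributes nothing when the corresponding Ext group vanishes. -/
theorem subsingleton_single (i n : ℤ)
    (h : ∀ m : ℕ, i + m = n → Subsingleton (Abelian.Ext.{w'} T B m)) :
    Subsingleton (HT T ((HomologicalComplex.single A (ComplexShape.up ℤ) i).obj B) n) := by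
  rcases lt_or_ge n i with hlt | hge
  · let L : CochainComplex A ℤ := (HomologicalComplex.single A (ComplexShape.up ℤ) i).obj B
    haveI : L.IsStrictlyGE i := (CochainComplex.isStrictlyGE_iff _ _).2 fun m hm =>
        HomologicalComplex.isZero_single_obj_X (ComplexShape.up ℤ) i B m (by omega)
    exact subsingleton_of_lt T L i n hlt
  · obtain ⟨m, hm⟩ := Int.le.dest hge
    haveI := h m hm
    exact (HTsingleEquiv T B i n m hm).toEquiv.subsingleton

end Single

end Groth.Agent.AcycHyper7.Dev
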