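import Groth.Agent.AcycHyper7.Devissage
import Groth.Prelude.Def_DeRham2
import Groth.Prelude.Def_Coh

/-!
# The graded pieces of a de Rham complex and Hodge cohomology
-/

set_option autoImplicit false
set_option linter.style.haveILetI false
set_option backward.isDefEq.respectTransparency false
set_option backward.isDefEq.respectTransparency.types false

universe u

open CategoryTheory CategoryTheory.Limits AlgebraicGeometry Opposite TopologicalSpace E1Deg
open CategoryTheory.Abelian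

noncomputable section

namespace Groth.Agent.AcycHyper7.Dev

variable {X S : Scheme.{u}} {f : X ⟶ S} {Ω' : X.Modules} {δ : OmegaSh.Der f Ω'} (D : DeRhamSh.Cx f Ω' δ)

/-- The test object for global hypercohomology. -/
abbrev Ttop (X : Scheme.{u}) : Sheaf (Opens.grothendieckTopology ↥X) AddCommGrpCat.{u} :=
  CohCx.freeSheaf (Opens.grothendieckTopology ↥X) (⊤ : X.Opens)

/-- The degree `p` term of the extended complex. -/
def termIso (p : ℕ) : D.KZ.X (p : ℤ) ≅ Coh.toAb (D.term p) :=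
  D.K.extendXIso ComplexShape.embeddingUpNat (ComplexShape.embeddingUpNat_f p) ≪≫ D.iso p

variable [HasDerivedCategory.{u} (Sheaf (Opens.grothendieckTopology ↥X) AddCommGrpCat.{u})]

/-- A piece of the de Rham complex computes Hodge cohomology. -/
def grEquiv (p m : ℕ) (n : ℤ) (h : (p : ℤ) + m = n) :
    Gr (Ttop X) D.KZ (p : ℤ) n ≃+ Coh.HH X (D.term p) m :=
  ((HTsingleEquiv _ _ (p : ℤ) n m h).trans (extCongrRight _ (termIso D p) m)).trans
    (extCongrLeft (freeSheafIsoConstant (Opens.grothendieckTopology ↥X)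
      (CategoryTheory.Limits.isTerminalTop : IsTerminal (⊤ : X.Opens))) _ m)

lemma grEquiv_map (p m : ℕ) (n : ℤ) (h : (p : ℤ) + m = n) (φ : D.KZ.X (p : ℤ) ⟶ D.KZ.X (p : ℤ))
    (ψ : Coh.toAb (D.term p) ⟶ Coh.toAb (D.term p)) (hφ : φ ≫ (termIso D p).hom = (termIso D p).hom ≫ ψ)
    (x : Gr (Ttop X) D.KZ (p : ℤ) n) :
    grEquiv D p m n h (HTmap (Ttop X) ((HomologicalComplex.single _ (ComplexShape.up ℤ) (p : ℤ)).map φ) n x) =
      Sheaf.H.map ψ m (grEquiv D p m n h x) := by
  simp only [grEquiv, AddEquiv.trans_apply, HTsingleEquiv_map]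
  change (Ext.mk₀ _).comp (((HTsingleEquiv _ _ (p : ℤ) n m h x).comp (Ext.mk₀ φ) (add_zero m)).comp
      (Ext.mk₀ (termIso D p).hom) (add_zero m)) (zero_add m) =
    ((Ext.mk₀ _).comp ((HTsingleEquiv _ _ (p : ℤ) n m h x).comp (Ext.mk₀ (termIso D p).hom) (add_zero m))
      (zero_add m)).comp (Ext.mk₀ ψ) (add_zero m)
  simp only [Ext.comp_assoc_of_second_deg_zero, Ext.comp_assoc_of_third_deg_zero, Ext.mk₀_comp_mk₀, hφ]

/-- A piece contributes nothing when the corresponding Hodge cohomology vanishes. -/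
theorem subsingleton_gr (p : ℤ) (n : ℤ)
    (h : ∀ q m : ℕ, (q : ℤ) = p → (q : ℤ) + m = n → Subsingleton (Coh.HH X (D.term q) m)) :
    Subsingleton (Gr (Ttop X) D.KZ p n) := by
  rcases lt_or_ge p 0 with hp | hp
  · exact subsingleton_single.{u, u} (Ttop X) p n fun m _ =>
      ⟨fun x y => by
        have hz : IsZero (D.KZ.X p) :=
          HomologicalComplex.isZero_extend_X _ _ p fun i (hi : (i : ℤ) = p) => by omega
        rw [← Ext.comp_mk₀_id x, ← Ext.comp_mk₀_id y, hz.eq_of_src (𝟙 _) 0, Ext.mk₀_zero, Ext.comp_zero,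
          Ext.comp_zero]⟩
  obtain ⟨q, rfl⟩ := Int.eq_ofNat_of_zero_le hp
  rcases lt_or_ge n q with hn | hn
  · exact subsingleton_single.{u, u} (Ttop X) (q : ℤ) n fun m hm => by omega
  obtain ⟨m, hm⟩ := Int.le.dest hn
  haveI := h q m rfl hm
  exact (grEquiv D q m n hm).toEquiv.subsingleton

variable {k : Type u} [CommRing k] (c : k →+* Coh.Γtop X) (hD : KLinDR.TermwiseLinear c D.K D.term D.iso)

/-- The action on a piece. -/
abbrev rhoP (p : ℕ) : k →+* End ((HomologicalComplex.single _ (ComplexShape.up ℤ) (p : ℤ)).obj (D.KZ.X (p : ℤ))) :=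
  rhoGr (K := D.KZ) (KLinDR.scalar (c := c) hD : k →+* End D.KZ) (p : ℤ)

/-- A piece computes Hodge cohomology linearly. -/
theorem grEquiv_smul (p m : ℕ) (n : ℤ) (h : (p : ℤ) + m = n) (a : k)
    (x : KLinDR.HTρ (Ttop X) _ (rhoP D c hD p) n) :
    grEquiv D p m n h (KLinDR.HTρ.toHT (a • x)) = c a • grEquiv D p m n h (KLinDR.HTρ.toHT x) := by
  refine grEquiv_map D p m n h _ (Coh.smulAb (D.term p) (c a)) ?_ _
  rw [KLinDR.scalar_f]
  simp [termIso, KLinDR.scalarEnd]

/-- A piece is Hodge cohomology, linearly. -/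
def grLinearEquiv {p m : ℕ} [Module k (Coh.HH X (D.term p) m)] (n : ℤ) (h : (p : ℤ) + m = n)
    (hc : ∀ (a : k) (y : Coh.HH X (D.term p) m), a • y = c a • y) :
    KLinDR.HTρ (Ttop X) _ (rhoP D c hD p) n ≃ₗ[k] Coh.HH X (D.term p) m :=
  (KLinDR.HTρ.toHT.trans (grEquiv D p m n h)).toLinearEquiv fun a x => (grEquiv_smul D c hD p m n h a x).trans (hc a _).symm

end Groth.Agent.AcycHyper7.Dev
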