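import Groth.Agent.Synt29.Lie
import Groth.Agent.Synt29.DRGen
import Mathlib.RingTheory.Kaehler.Polynomial
import Mathlib.Algebra.MvPolynomial.Derivation

/-!
# The algebraic Poincaré lemma for polynomial rings in characteristic zero
-/

set_option autoImplicit false

universe u v

open MvPolynomial

namespace Groth.Agent.AcycHyper7

variable {k : Type u} [Field k] [CharZero k] {σ : Type v}
  (d : ∀ p : ℕ, ↥(⋀[MvPolynomial σ k]^p (Ω[MvPolynomial σ k⁄k])) →ₗ[k]
    ↥(⋀[MvPolynomial σ k]^(p + 1) (Ω[MvPolynomial σ k⁄k])))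
  (hd : DeRham.IsDiff (KaehlerDifferential.D k (MvPolynomial σ k)) d)

omit [CharZero k] in
lemma euler_monomial (s : σ →₀ ℕ) (a : k) :
    mkDerivation k (fun i : σ => (X i : MvPolynomial σ k)) (monomial s a) =
      (s.sum fun _ e => e) • monomial s a := by
  rw [mkDerivation_monomial, Finsupp.sum, Finsupp.sum, Finset.sum_smul, Finset.smul_sum]
  refine Finset.sum_congr rfl fun i hi => ?_
  rw [smul_eq_mul, X, monomial_mul, mul_one, smul_monomial, smul_monomial,
    tsub_add_cancel_of_le (Finsupp.single_le_iff.2 (Nat.one_le_iff_ne_zero.2 (Finsupp.mem_support_iff.1 hi))),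
    smul_eq_mul, nsmul_eq_mul, mul_comm]

omit [CharZero k] in
lemma span_D_monomial :
    Submodule.span (MvPolynomial σ k)
      {ω | ∃ (s : σ →₀ ℕ) (a : k), KaehlerDifferential.D k (MvPolynomial σ k) (monomial s a) = ω} = ⊤ := by
  rw [eq_top_iff, ← KaehlerDifferential.span_range_derivation k (MvPolynomial σ k), Submodule.span_le]
  rintro _ ⟨f, rfl⟩
  show KaehlerDifferential.D k (MvPolynomial σ k) f ∈ _
  induction f using MvPolynomial.induction_on' with
  | monomial m a => exact Submodule.subset_span ⟨m, a, rfl⟩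
  | add p q hp hq => rw [map_add]; exact add_mem hp hq

/-- The Euler contraction. -/
noncomputable def eulerForm : Ω[MvPolynomial σ k⁄k] →ₗ[MvPolynomial σ k] MvPolynomial σ k :=
  (mkDerivation k (fun i : σ => (X i : MvPolynomial σ k))).liftKaehlerDifferential

omit [CharZero k] in
lemma eulerForm_D (s : σ →₀ ℕ) (a : k) :
    eulerForm (KaehlerDifferential.D k (MvPolynomial σ k) (monomial s a)) =
      (s.sum fun _ e => e) • monomial s a := by
  rw [eulerForm, Derivation.liftKaehlerDifferential_comp_D, euler_monomial]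

include hd in
/-- Closed forms of positive degree on affine space are exact. -/
theorem mem_coboundaries (i : ℕ) (z : ↥(⋀[MvPolynomial σ k]^(i + 1) (Ω[MvPolynomial σ k⁄k])))
    (hz : d (i + 1) z = 0) : z ∈ DeRham.coboundaries d (i + 1) := by
  classical
  let δ := KaehlerDifferential.D k (MvPolynomial σ k)
  let ι := fun n => (Synt29.Lie.contr (eulerForm (k := k) (σ := σ)) n).restrictScalars k
  let L : Module.End k ↥(⋀[MvPolynomial σ k]^(i + 1) (Ω[MvPolynomial σ k⁄k])) :=
    ι (i + 1) ∘ₗ d (i + 1) + d i ∘ₗ ι i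
  have hP : ∀ w, ∃ N, Synt29.Lie.kill L N w = 0 := by
    have key : ∀ w, ∀ f : MvPolynomial σ k, ∃ N, Synt29.Lie.kill L N (f • w) = 0 := by
      intro w
      have hw : w ∈ Submodule.span (MvPolynomial σ k) (exteriorPower.ιMulti (MvPolynomial σ k) (i + 1) ''
          {v | Set.range v ⊆ {ω | ∃ (s : σ →₀ ℕ) (a : k), δ (monomial s a) = ω}}) := by
        rw [exteriorPower.ιMulti_span_of_span _ _ _ span_D_monomial]
        trivial
      induction hw using Submodule.span_induction with
      | mem _ h =>
        obtain ⟨v, hv, rfl⟩ := h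
        choose m a hma using fun j => hv (Set.mem_range_self j)
        intro f
        induction f using MvPolynomial.induction_on' with
        | add p q hp hq =>
          obtain ⟨N, hN⟩ := hp
          obtain ⟨M, hM⟩ := hq
          exact ⟨max N M, by rw [add_smul, map_add, Synt29.Lie.kill_mono _ _ (le_max_left N M) hN,
            Synt29.Lie.kill_mono _ _ (le_max_right N M) hM, add_zero]⟩
        | monomial m₀ a₀ =>
          have he : exteriorPower.ιMulti (MvPolynomial σ k) (i + 1) v =
              exteriorPower.ιMulti (MvPolynomial σ k) (i + 1) (fun j => δ (monomial (m j) (a j))) :=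
            congrArg _ (funext fun j => (hma j).symm)
          rw [he]
          show ∃ N, Synt29.Lie.kill L N (DeRham.gen δ (i + 1) (monomial m₀ a₀) fun j => monomial (m j) (a j)) = 0
          by_cases hm : m 0 = 0
          · refine ⟨0, ?_⟩
            rw [DeRham.gen, AlternatingMap.map_coord_zero (m := fun j => _) _ 0 (by
              show δ (monomial (m 0) (a 0)) = 0
              rw [hm, monomial_zero', ← MvPolynomial.algebraMap_eq]
              exact Derivation.map_algebraMap _ _), smul_zero, map_zero]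
          · obtain ⟨t, ht⟩ : ∃ t, (m₀.sum fun _ e => e) + ∑ j, ((m j).sum fun _ e => e) = t + 1 :=
              Nat.exists_eq_succ_of_ne_zero fun h => hm (Finsupp.ext fun x => by
                have h0 : ∑ j : Fin (i + 1), ((m j).sum fun _ e => e) = 0 := by omega
                have h1 : ((m 0).sum fun _ e => e) = 0 := Finset.sum_eq_zero_iff.1 h0 0 (Finset.mem_univ 0)
                by_contra hx
                exact hx (Finset.sum_eq_zero_iff.1 h1 x (Finsupp.mem_support_iff.2 hx)))
            refine ⟨t + 1, Synt29.Lie.kill_eq_zero_of_eigen _ _ t ?_⟩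
            rw [← ht]
            exact Synt29.Lie.lie_gen hd eulerForm i _ _ _ _ (eulerForm_D m₀ a₀) fun j => eulerForm_D (m j) (a j)
      | zero => intro f; exact ⟨0, by rw [smul_zero, map_zero]⟩
      | add x y _ _ hx hy =>
        intro f
        obtain ⟨N, hN⟩ := hx f
        obtain ⟨M, hM⟩ := hy f
        exact ⟨max N M, by rw [smul_add, map_add, Synt29.Lie.kill_mono _ _ (le_max_left N M) hN,
          Synt29.Lie.kill_mono _ _ (le_max_right N M) hM, add_zero]⟩
      | smul c x _ hx => intro f; rw [smul_smul]; exact hx _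
    intro w
    simpa using key w 1
  obtain ⟨N, hN⟩ := hP z
  refine Synt29.Lie.mem_of_kill L (LinearMap.ker (d (i + 1))) (DeRham.coboundaries d (i + 1)) ?_ ?_ N z hz hN
  · intro w hw
    have hw0 : d (i + 1) w = 0 := hw
    show ι (i + 1) (d (i + 1) w) + d i (ι i w) ∈ _
    rw [hw0, map_zero, zero_add]
    exact ⟨ι i w, rfl⟩
  · intro w hw
    have hw0 : d (i + 1) w = 0 := hw
    show d (i + 1) (ι (i + 1) (d (i + 1) w) + d i (ι i w)) = 0
    rw [hw0, map_zero, zero_add]
    exact LinearMap.congr_fun (hd.2 i) _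

include hd in
/-- The closed functions on affine space are the constants. -/
theorem zeroEquiv_eq_C (z : ↥(⋀[MvPolynomial σ k]^0 (Ω[MvPolynomial σ k⁄k]))) (hz : d 0 z = 0) :
    exteriorPower.zeroEquiv (MvPolynomial σ k) (Ω[MvPolynomial σ k⁄k]) z =
      C (coeff 0 (exteriorPower.zeroEquiv (MvPolynomial σ k) (Ω[MvPolynomial σ k⁄k]) z)) := by
  classical
  set f := exteriorPower.zeroEquiv (MvPolynomial σ k) (Ω[MvPolynomial σ k⁄k]) z with hf
  have hf' : z = DeRham.gen (KaehlerDifferential.D k (MvPolynomial σ k)) 0 f Fin.elim0 := by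
    apply (exteriorPower.zeroEquiv (MvPolynomial σ k) (Ω[MvPolynomial σ k⁄k])).injective
    rw [DeRham.gen, map_smul, exteriorPower.zeroEquiv_ιMulti, smul_eq_mul, mul_one]
  have h1 : exteriorPower.oneEquiv (MvPolynomial σ k) (Ω[MvPolynomial σ k⁄k]) (d 0 z) =
      KaehlerDifferential.D k (MvPolynomial σ k) f := by
    rw [hf', hd.1, exteriorPower.oneEquiv_ιMulti]
    rfl
  rw [hz, map_zero] at h1
  have h2 : ∀ g : MvPolynomial σ k, eulerForm (KaehlerDifferential.D k (MvPolynomial σ k) g) =
      ∑ s ∈ g.support, (s.sum fun _ e => e) • monomial s (coeff s g) := fun g => by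
    conv_lhs => rw [g.as_sum, map_sum, map_sum]
    simp only [eulerForm_D]
  refine MvPolynomial.ext _ _ fun s => ?_
  rw [coeff_C]
  split_ifs with hs
  · rw [hs]
  · have h3 := congrArg (coeff s) (h2 f)
    rw [← h1, map_zero, coeff_zero, coeff_sum, Finset.sum_eq_single s (fun t _ ht => by
      rw [coeff_smul, coeff_monomial, if_neg ht, smul_zero]) (fun hns => by
      rw [MvPolynomial.notMem_support_iff.1 hns]; simp)] at h3
    rw [coeff_smul, coeff_monomial, if_pos rfl, nsmul_eq_mul, eq_comm, mul_eq_zero, Nat.cast_eq_zero] at h3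
    refine h3.resolve_left fun h => hs (Eq.symm (Finsupp.ext fun x => ?_))
    by_contra hx
    exact hx (Finset.sum_eq_zero_iff.1 h x (Finsupp.mem_support_iff.2 hx))

end Groth.Agent.AcycHyper7
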