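import Groth.Agent.AcycHyper7.Pieces
import Groth.Agent.OmegaPn.Coh

/-!
# De Rham cohomology of projective space
-/

set_option autoImplicit false
set_option linter.style.haveILetI false
set_option backward.isDefEq.respectTransparency false
set_option backward.isDefEq.respectTransparency.types false

universe u

open CategoryTheory CategoryTheory.Limits AlgebraicGeometry Opposite TopologicalSpace

noncomputable section

namespace Groth.Agent.AcycHyper7.Dev

variable (A : Type u) [CommRing A] (n : ℕ) [QuasiSeparated (CohB1.ProjSpace.toSpec n A)]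
  (D : DeRhamSh.OmegaCx (CohB1.ProjSpace.toSpec n A))
  [HasDerivedCategory.{u} (Sheaf (Opens.grothendieckTopology ↥(CohB1.ProjSpace n A)) AddCommGrpCat.{u})]

/-- Off the diagonal there is no Hodge cohomology. -/
theorem subsingleton_gr_projSpace (p j : ℤ) (h : j ≠ 2 * p ∨ (n : ℤ) < p) :
    Subsingleton (Gr (Ttop (CohB1.ProjSpace n A)) D.KZ p j) :=
  subsingleton_gr D p j fun q m hq hm => by
    obtain ⟨e⟩ := OmegaPn.nonempty_iso_Z n A (D.isExtPow q)
    haveI := OmegaPn.Z_hodge_van (n := n) (A := A) q m (by omega)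
    exact (OmegaPn.HHiso A e m).toEquiv.subsingleton

theorem subsingleton_hdR_projSpace (j : ℤ) (hj : ∀ i : ℕ, i ≤ n → j ≠ 2 * (i : ℤ)) :
    Subsingleton (DeRhamSh.HdR D j) := by
  haveI : D.KZ.IsStrictlyGE 0 := (CochainComplex.isStrictlyGE_iff _ _).2 fun m hm =>
    HomologicalComplex.isZero_extend_X _ _ m fun i (hi : (i : ℤ) = m) => by omega
  refine subsingleton_HT (Ttop (CohB1.ProjSpace n A)) D.KZ 0 j fun p hp _ =>
    subsingleton_gr_projSpace A n D p j ?_
  by_contra hc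
  obtain ⟨q, rfl⟩ := Int.eq_ofNat_of_zero_le hp
  exact hj q (by omega) (by omega)

theorem nonempty_linearEquiv_hdR_projSpace
    (h : KLinDR.TermwiseLinear (Coh.toGlobal (CohB1.ProjSpace.toSpec n A)) D.K D.term D.iso)
    (i : ℕ) (hi : i ≤ n) :
    Nonempty (KLinDR.HdR (Coh.toGlobal (CohB1.ProjSpace.toSpec n A)) D h (2 * (i : ℤ)) ≃ₗ[A] A) := by
  haveI : D.KZ.IsStrictlyGE 0 := (CochainComplex.isStrictlyGE_iff _ _).2 fun m hm =>
    HomologicalComplex.isZero_extend_X _ _ m fun i (hi : (i : ℤ) = m) => by omega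
  obtain ⟨e⟩ := nonempty_linearEquiv (Ttop (CohB1.ProjSpace n A)) 0 (KLinDR.scalar (c := Coh.toGlobal (CohB1.ProjSpace.toSpec n A)) h : A →+* End D.KZ) (2 * (i : ℤ)) (i : ℤ)
    (by omega) (fun p _ hp => subsingleton_gr_projSpace A n D p _ (Or.inl (by omega)))
    (fun p hp _ => subsingleton_gr_projSpace A n D p _ (Or.inl (by omega)))
    (fun p _ hp => subsingleton_gr_projSpace A n D p _ (Or.inl (by omega)))
  obtain ⟨z⟩ := OmegaPn.nonempty_iso_Z n A (D.isExtPow i)
  obtain ⟨-, ⟨g⟩⟩ := OmegaPn.Z_hodge (n := n) (A := A) i hi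
  exact ⟨e.trans ((grLinearEquiv D _ h (p := i) (m := i) (2 * (i : ℤ)) (by omega) fun _ _ => rfl).trans
    ((OmegaPn.HHiso A z i).trans g))⟩

theorem nonempty_addEquiv_hdR_projSpace (i : ℕ) (hi : i ≤ n) :
    Nonempty (DeRhamSh.HdR D (2 * (i : ℤ)) ≃+ A) := by
  haveI : D.KZ.IsStrictlyGE 0 := (CochainComplex.isStrictlyGE_iff _ _).2 fun m hm =>
    HomologicalComplex.isZero_extend_X _ _ m fun i (hi : (i : ℤ) = m) => by omega
  let T := Ttop (CohB1.ProjSpace n A)
  have hι := bijective_ι T D.KZ 0 (2 * (i : ℤ)) (i : ℤ) (by omega)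
    (fun p _ hp => subsingleton_gr_projSpace A n D p _ (Or.inl (by omega)))
    (fun p _ hp => subsingleton_gr_projSpace A n D p _ (Or.inl (by omega)))
  have hπ := bijective_π T D.KZ (2 * (i : ℤ)) (i : ℤ)
    (fun p hp _ => subsingleton_gr_projSpace A n D p _ (Or.inl (by omega)))
    (fun p hp _ => subsingleton_gr_projSpace A n D p _ (Or.inl (by omega)))
  obtain ⟨z⟩ := OmegaPn.nonempty_iso_Z n A (D.isExtPow i)
  obtain ⟨-, ⟨g⟩⟩ := OmegaPn.Z_hodge (n := n) (A := A) i hi
  exact ⟨(AddEquiv.ofBijective _ hι).symm.trans ((AddEquiv.ofBijective _ hπ).trans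
    ((grEquiv D i i (2 * (i : ℤ)) (by omega)).trans ((OmegaPn.HHiso A z i).trans g).toAddEquiv))⟩

end Groth.Agent.AcycHyper7.Dev
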